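import Cfsg.Agent.Characters.Linear
import Cfsg.Agent.H424.DegTools
import Cfsg.Agent.H525.ExtMult
import Cfsg.Agent.H595.Central
import Cfsg.Agent.H669.OverCount
import Cfsg.Agent.StandardComponent.AltAut
import Cfsg.Agent.S0892
import Cfsg.Agent.H107.SpinRep
import Cfsg.Agent.H691.AN.Defs

/-!
# Perfect central extensions of `A_n` in groups whose degrees are degrees of `A_n`: the common part (helper388)

* `Over Z l χ` : `χ` lies over the linear character `l` of the central subgroup `Z`;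
* `exists_over`, `sum_sq`, `card_over_le` : existence, `∑ χ(1)² = |A : Z|`, at most `k(A / Z)` characters;
* `pow_deg_eq_one` : `l(z) ^ χ(1) = 1` in a perfect group;
* `Cen n N V π` : `N` is a perfect normal subgroup of `G`, `V ≤ N` is central in `N`, `π : N → A_n` has kernel `V`;
* `Cen.exists_mul` : products of characters of `N` and `C(N)`;
* `Cen.comm_mem` : `C(N) / V` is abelian; `Cen.common` : the degrees over a linear character;
* `Cen.exists_lin`, `Cen.exists_z` : for `n ≥ 8`, `V ≠ 1`: `V = {1, z}`; `Cen.isCover`;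
* `Cen.fixed` : for `n ≥ 8` a fixed `i` such that `χ(1) 2 ^ i t` is a degree of `A_n`, for all faithful `χ`;
* `Cen.hpow` : for each `χ` there is `i` with `2 ^ i χ(1)` a degree of `A_n`.
-/

set_option autoImplicit false
set_option linter.style.haveILetI false

namespace Cfsg.Agent.H388.AN

open Cfsg Cfsg.Agent.Characters.Core Cfsg.Agent.H424.DegTools Cfsg.Agent.H691.AN
open scoped ComplexConjugate commutatorElement

universe u v

/-! ## Characters over a linear character of a central subgroup -/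

section Over

variable {A : Type u} [Group A]

/-- `χ` lies over the linear character `l` of `Z`. -/
def Over (Z : Subgroup A) (l : Z →* ℂˣ) (χ : A → ℂ) : Prop := ∀ z : Z, χ z = χ 1 * l z

theorem classInner_ne_zero_iff [Finite A] {Z : Subgroup A} [Fintype Z] (hZ : Z ≤ Subgroup.center A) (l : Z →* ℂˣ)
    (χ : IrrCharacter A) : classInner (fun z : Z => (χ : A → ℂ) z) (fun z => (l z : ℂ)) ≠ 0 ↔ Over Z l χ := by
  haveI := Fintype.ofFinite A
  constructor
  · intro h z
    have h1 := Cfsg.Agent.H595.Central.over_central Z.subtype (fun n => hZ n.2) χ l h 1 z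
    rw [one_mul] at h1
    exact h1
  · intro h
    have h1 : (fun z : Z => (χ : A → ℂ) z) = fun z : Z => (χ : A → ℂ) 1 * (l z : ℂ) := funext h
    rw [h1, classInner_def]
    have h2 : ∀ z : Z, (χ : A → ℂ) 1 * (l z : ℂ) * conj (l z : ℂ) = (χ : A → ℂ) 1 := by
      intro z
      have h4 : ((l z⁻¹ : ℂˣ) : ℂ) = conj (l z : ℂ) :=
        isCharacter_apply_inv (isIrr_isCharacter (Cfsg.Agent.H595.Central.isIrr_hom l)) z
      rw [← h4, map_inv, mul_assoc, ← Units.val_mul, mul_inv_cancel, Units.val_one, mul_one]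
    rw [Finset.sum_congr rfl fun z _ => h2 z, Finset.sum_const, nsmul_eq_mul]
    refine mul_ne_zero (inv_ne_zero card_ne_zero_complex) (mul_ne_zero ?_ (isIrr_apply_one_ne_zero χ.2))
    exact Nat.cast_ne_zero.2 (Finset.card_ne_zero.2 ⟨1, Finset.mem_univ _⟩)

theorem inv_of_central {Z : Subgroup A} [hZn : Z.Normal] (hZ : Z ≤ Subgroup.center A) (l : Z →* ℂˣ) (g : A) (n : Z) :
    (fun z : Z => (l z : ℂ)) ⟨g * n * g⁻¹, hZn.conj_mem (n : A) n.2 g⟩ = (fun z : Z => (l z : ℂ)) n := by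
  have h1 : (⟨g * n * g⁻¹, hZn.conj_mem (n : A) n.2 g⟩ : Z) = n := by
    apply Subtype.ext
    change g * n * g⁻¹ = n
    rw [Subgroup.mem_center_iff.1 (hZ n.2) g, mul_inv_cancel_right]
  change ((l _ : ℂˣ) : ℂ) = _
  rw [h1]

open Classical in
theorem sum_sq [Finite A] {Z : Subgroup A} (hZ : Z ≤ Subgroup.center A) (l : Z →* ℂˣ) [Fintype (IrrCharacter A)] :
    ∑ χ : IrrCharacter A, (if Over Z l χ then charDegree (χ : A → ℂ) ^ 2 else 0) = Z.index := by
  have hn : Z.Normal := ⟨fun n hn g => by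
    rwa [Subgroup.mem_center_iff.1 (hZ hn) g, mul_inv_cancel_right]⟩
  haveI := Fintype.ofFinite Z
  have hl := Cfsg.Agent.H595.Central.isIrr_hom l
  obtain ⟨e, h1, h2, h3⟩ := Cfsg.Agent.H669.OverCount.sum_sq_over Z hl (inv_of_central hZ l)
  rw [← h3]
  refine Finset.sum_congr rfl fun χ _ => ?_
  have h4 : e χ ≠ 0 ↔ Over Z l χ := by
    rw [← classInner_ne_zero_iff hZ l χ, h1 χ]
    exact Nat.cast_ne_zero.symm
  by_cases h5 : Over Z l χ
  · rw [if_pos h5]
    have h6 := h2 χ (h4.2 h5)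
    have h7 : charDegree (fun z : Z => (l z : ℂ)) = 1 := by
      apply Cfsg.Agent.Blocks.Basic.charDegree_of_eq
      simp
    rw [h6, h7, mul_one]
  · rw [if_neg h5]
    have h6 : e χ = 0 := by
      by_contra h7
      exact h5 (h4.1 h7)
    rw [h6]
    rfl

theorem exists_over [Finite A] {Z : Subgroup A} (hZ : Z ≤ Subgroup.center A) (l : Z →* ℂˣ) :
    ∃ χ : A → ℂ, IsIrrCharacter A χ ∧ Over Z l χ := by
  classical
  haveI := finite_irr (G := A)
  haveI := Fintype.ofFinite (IrrCharacter A)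
  by_contra hcon
  push Not at hcon
  have h1 := sum_sq hZ l
  rw [Finset.sum_eq_zero fun (χ : IrrCharacter A) _ => if_neg (hcon χ χ.2)] at h1
  exact Subgroup.index_ne_zero_of_finite h1.symm

theorem card_over_le [Finite A] {Z : Subgroup A} (hZ : Z ≤ Subgroup.center A) [Z.Normal] (l : Z →* ℂˣ) :
    Nat.card {χ : IrrCharacter A // Over Z l χ} ≤ Nat.card (ConjClasses (A ⧸ Z)) := by
  haveI := Fintype.ofFinite Z
  have hl := Cfsg.Agent.H595.Central.isIrr_hom l
  have h1 := Cfsg.Agent.H669.OverCount.card_over_le Z hl (inv_of_central hZ l)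
  refine le_trans (le_of_eq ?_) h1
  exact Nat.card_congr (Equiv.subtypeEquivRight fun χ => (classInner_ne_zero_iff hZ l χ).symm)

/-- Determinants in a perfect group. -/
theorem pow_deg_eq_one [Finite A] (hA : commutator A = ⊤) {χ : A → ℂ} (hχ : IsIrrCharacter A χ) {d : ℕ}
    (hd : χ 1 = d) {z : A} (hz : z ∈ Subgroup.center A) {w : ℂ} (hw : χ z = χ 1 * w) : w ^ d = 1 := by
  obtain ⟨n, ρ, hρ, rfl⟩ := hχ
  obtain ⟨w', hw'⟩ := Characters.Central.exists_smul_of_comm ρ hρ (ρ z) (by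
    intro g
    rw [← map_mul, ← map_mul, Subgroup.mem_center_iff.1 hz g])
  have hn : n = d := by
    rw [Representation.char_one] at hd
    have h3 : Module.finrank ℂ (Fin n → ℂ) = d := by exact_mod_cast hd
    rw [← h3, Module.finrank_fin_fun]
  have hw2 : ρ.character z = ρ.character 1 * w' := by
    have h3 : z = 1 * z := (one_mul z).symm
    change LinearMap.trace ℂ _ (ρ z) = LinearMap.trace ℂ _ (ρ 1) * w'
    rw [hw', map_one, map_smul, smul_eq_mul, mul_comm]
  have hne : ρ.character 1 ≠ 0 := isIrr_apply_one_ne_zero ⟨n, ρ, hρ, rfl⟩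
  have hww : w' = w := mul_left_cancel₀ hne (hw2.symm.trans hw)
  subst hww
  -- the determinant
  have hdet : ∀ g : A, LinearMap.det (ρ g) = 1 := by
    let δ : A →* ℂ := (LinearMap.det : (Module.End ℂ (Fin n → ℂ)) →* ℂ).comp ρ
    let δ' : A →* ℂˣ := δ.toHomUnits
    have h1 : commutator A ≤ δ'.ker := by
      rw [commutator_def, Subgroup.commutator_le]
      intro x _ y _
      rw [MonoidHom.mem_ker, map_commutatorElement, commutatorElement_eq_one_iff_mul_comm, mul_comm]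
    intro g
    have h2 : δ' g = 1 := h1 (by rw [hA]; trivial)
    have h3 := congrArg (fun x : ℂˣ => (x : ℂ)) h2
    simpa [δ', δ] using h3
  have h4 := hdet z
  rw [hw', LinearMap.det_smul, map_one, mul_one, Module.finrank_fin_fun, hn] at h4
  exact h4

theorem eq_one_of_forall [Finite A] {c : A} (h : ∀ χ : A → ℂ, IsIrrCharacter A χ → χ c = χ 1) : c = 1 := by
  classical
  haveI := Fintype.ofFinite A
  haveI := finite_irr (G := A)
  haveI := Fintype.ofFinite (IrrCharacter A)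
  by_contra hc
  let f : A → ℂ := fun x => if x = 1 then 1 else 0
  have hf : IsClassFunction A f := by
    intro x g
    change (if g * x * g⁻¹ = 1 then (1 : ℂ) else 0) = if x = 1 then 1 else 0
    simp only [conj_eq_one_iff]
  have h1 := classFunction_eq_sum hf
  have h2 : f c = f 1 := by
    rw [h1, Finset.sum_apply, Finset.sum_apply]
    refine Finset.sum_congr rfl fun χ _ => ?_
    rw [Pi.smul_apply, Pi.smul_apply, h χ χ.2]
  simp [f, hc] at h2

theorem comm_of_degrees [Finite A] (h : ∀ d ∈ charDegrees A, d = 1) (x y : A) : x * y = y * x := by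
  rw [← commutatorElement_eq_one_iff_mul_comm]
  apply eq_one_of_forall
  intro χ hχ
  obtain ⟨d, -, hd⟩ := isIrr_apply_one hχ
  have h1 : χ 1 = 1 := by
    rw [hd, h d (mem_charDegrees.2 ⟨χ, hχ, hd⟩), Nat.cast_one]
  obtain ⟨f, rfl⟩ := Cfsg.Agent.Characters.Linear.exists_hom_of_isIrrCharacter hχ h1
  change ((f ⁅x, y⁆ : ℂˣ) : ℂ) = ((f 1 : ℂˣ) : ℂ)
  rw [map_commutatorElement, commutatorElement_eq_one_iff_mul_comm.2 (mul_comm _ _), map_one]

/-- the central character -/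
theorem exists_lin [Finite A] {Z : Subgroup A} (hZ : Z ≤ Subgroup.center A) {χ : A → ℂ} (hχ : IsIrrCharacter A χ) :
    ∃ l : Z →* ℂˣ, Over Z l χ := by
  haveI := Fintype.ofFinite A
  have h1 : ∀ z : Z, ∃ w : ℂ, ‖w‖ = 1 ∧ ∀ g, χ (g * z) = w * χ g := fun z =>
    Cfsg.Agent.CharDeep.DegreeBound.exists_omega hχ (hZ z.2)
  choose w hw1 hw using h1
  have hne := isIrr_apply_one_ne_zero hχ
  have hval : ∀ z : Z, χ z = w z * χ 1 := fun z => by
    have := hw z 1
    rwa [one_mul] at this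
  have h1 : w 1 = 1 := by
    have h2 := hval 1
    rw [Subgroup.coe_one] at h2
    exact mul_right_cancel₀ hne (by rw [one_mul]; exact h2.symm)
  have hmul : ∀ a b, w (a * b) = w a * w b := by
    intro a b
    have h2 := hval (a * b)
    rw [Subgroup.coe_mul, hw b a, hval a] at h2
    apply mul_right_cancel₀ hne
    rw [← h2]
    ring
  let f : Z →* ℂ := ⟨⟨w, h1⟩, hmul⟩
  refine ⟨f.toHomUnits, fun z => ?_⟩
  rw [hval z, mul_comm]
  rfl

end Over

/-- the largest degree -/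
theorem exists_max (n : ℕ) : ∃ b ∈ D n, ∀ d ∈ D n, d ≤ b := by
  classical
  have h1 : (D n).Finite := (Set.finite_le_nat (Nat.card (An n))).subset fun d hd =>
    Nat.le_of_dvd Nat.card_pos (dvd_card hd)
  obtain ⟨b, hb, h2⟩ := Set.exists_max_image (D n) id h1 ⟨1, one_mem_degrees⟩
  exact ⟨b, hb, h2⟩

/-! ## The setting -/

theorem comm_aux {G : Type*} [Group G] {x y a b : G} (c1 : x * a = a * x) (c2 : y * a = a * y) (c3 : x * b = b * x)
    (c4 : y * b = b * y) (c5 : a * b = b * a) : ⁅a * x, b * y⁆ = ⁅x, y⁆ := by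
  have k1 : a * x * (b * y) = x * y * (a * b) := by
    calc a * x * (b * y) = a * (x * b) * y := by group
      _ = a * (b * x) * y := by rw [c3]
      _ = (a * b) * (x * y) := by group
      _ = x * y * (a * b) := by
          rw [mul_assoc, ← mul_assoc b x y, ← c3, mul_assoc x b y, ← c4, ← mul_assoc, ← mul_assoc, ← c1]
          rw [mul_assoc x a y, ← c2]
          simp only [mul_assoc]
  have k2 : b * y * (a * x) = y * x * (a * b) := by
    calc b * y * (a * x) = b * (y * a) * x := by group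
      _ = b * (a * y) * x := by rw [c2]
      _ = (b * a) * (y * x) := by group
      _ = (a * b) * (y * x) := by rw [c5]
      _ = y * x * (a * b) := by
          rw [mul_assoc, ← mul_assoc b y x, ← c4, mul_assoc y b x, ← c3, ← mul_assoc, ← mul_assoc, ← c2]
          rw [mul_assoc y a x, ← c1]
          simp only [mul_assoc]
  have k3 : ⁅a * x, b * y⁆ = (a * x * (b * y)) * (b * y * (a * x))⁻¹ := by
    rw [commutatorElement_def]
    group
  rw [k3, k1, k2, commutatorElement_def]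
  group

/-- `N` is a perfect normal subgroup of `G`, `V ≤ N` is central in `N` and `π : N → A_n` is surjective with kernel `V`. -/
structure Cen (n : ℕ) {G : Type u} [Group G] (N V : Subgroup G) (π : N →* An n) : Prop where
  normN : N.Normal
  normV : V.Normal
  le : V ≤ N
  surj : Function.Surjective π
  ker : ∀ x : N, π x = 1 ↔ (x : G) ∈ V
  perf : ⁅N, N⁆ = N
  cen : V ≤ Subgroup.centralizer (N : Set G)

theorem cen_of {n : ℕ} {G : Type u} [Group G] {N V : Subgroup G} [hN : N.Normal] [hV : V.Normal] (hVN : V ≤ N)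
    (e : (N ⧸ V.subgroupOf N) ≃* An n) (hperf : ⁅N, N⁆ = N) (hcen : V ≤ Subgroup.centralizer (N : Set G)) :
    Cen n N V (e.toMonoidHom.comp (QuotientGroup.mk' (V.subgroupOf N))) where
  normN := hN
  normV := hV
  le := hVN
  surj := e.surjective.comp (QuotientGroup.mk'_surjective _)
  ker := fun x => by
    change e (x : N ⧸ V.subgroupOf N) = 1 ↔ _
    rw [MulEquiv.map_eq_one_iff, QuotientGroup.eq_one_iff, Subgroup.mem_subgroupOf]
  perf := hperf
  cen := hcen

namespace Cen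

variable {n : ℕ} {G : Type u} [Group G] {N V : Subgroup G} {π : N →* An n}

/-- the centralizer of `N` -/
abbrev C (_ : Cen n N V π) : Subgroup G := Subgroup.centralizer (N : Set G)

theorem comm_of (_ : Cen n N V π) {x c : G} (hx : x ∈ N) (hc : c ∈ Subgroup.centralizer (N : Set G)) : x * c = c * x :=
  Subgroup.mem_centralizer_iff.1 hc x hx

/-- three subgroups -/
theorem mem_C (h : Cen n N V π) {g : G} (hg : ∀ x ∈ N, g * x * g⁻¹ * x⁻¹ ∈ V) : g ∈ h.C := by
  have h1 : ⁅N, N⁆ ≤ Subgroup.centralizer {g} := by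
    rw [Subgroup.commutator_le]
    intro x hx y hy
    have hx1 := hg x hx
    have hy1 := hg y hy
    rw [Subgroup.mem_centralizer_singleton_iff, eq_comm, ← mul_inv_eq_iff_eq_mul]
    have e1 : g * ⁅x, y⁆ * g⁻¹ = ⁅g * x * g⁻¹, g * y * g⁻¹⁆ := by
      simp only [commutatorElement_def]
      group
    have e2 : g * x * g⁻¹ = (g * x * g⁻¹ * x⁻¹) * x := by group
    have e3 : g * y * g⁻¹ = (g * y * g⁻¹ * y⁻¹) * y := by group
    rw [e1, e2, e3]
    generalize g * x * g⁻¹ * x⁻¹ = a at hx1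
    generalize g * y * g⁻¹ * y⁻¹ = b at hy1
    have c1 : x * a = a * x := h.comm_of hx (h.cen hx1)
    have c2 : y * a = a * y := h.comm_of hy (h.cen hx1)
    have c3 : x * b = b * x := h.comm_of hx (h.cen hy1)
    have c4 : y * b = b * y := h.comm_of hy (h.cen hy1)
    have c5 : a * b = b * a := h.comm_of (h.le hx1) (h.cen hy1)
    exact comm_aux c1 c2 c3 c4 c5
  rw [h.perf] at h1
  exact Subgroup.mem_centralizer_iff.2 fun x hx => (Subgroup.mem_centralizer_singleton_iff.1 (h1 hx))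

theorem center_alt {n : ℕ} (hn : 4 ≤ n) {x : An n} (hx : ∀ y, y * x = x * y) : x = 1 := by
  have h1 := alternatingGroup.center_eq_bot (α := Fin n) (by simpa using hn)
  have h2 : x ∈ Subgroup.center (An n) := Subgroup.mem_center_iff.2 hx
  rw [h1] at h2
  exact h2

theorem mem_V (h : Cen n N V π) (hn : 4 ≤ n) {x : G} (hx : x ∈ N) (hc : x ∈ h.C) : x ∈ V := by
  rw [← h.ker ⟨x, hx⟩]
  apply center_alt hn
  intro y
  obtain ⟨y, rfl⟩ := h.surj y
  rw [← map_mul, ← map_mul]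
  congr 1
  exact Subtype.ext (h.comm_of y.2 hc)

theorem V_le_C (h : Cen n N V π) : V ≤ h.C := h.cen

/-- conjugation by `g` -/
theorem exists_perm (h : Cen n N V π) (hn : 7 ≤ n) (g : G) : ∃ σ : Equiv.Perm (Fin n), ∀ x : N,
    ((π ⟨g * x * g⁻¹, h.normN.conj_mem x x.2 g⟩ : An n) : Equiv.Perm (Fin n)) = σ * (π x : An n) * σ⁻¹ := by
  haveI := h.normN
  let f : N →* An n := π.comp (MulAut.conjNormal g : N ≃* N).toMonoidHom
  have hf : ∀ x : N, f x = π ⟨g * x * g⁻¹, h.normN.conj_mem x x.2 g⟩ := fun x => by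
    change π (MulAut.conjNormal g x) = _
    congr 1
  have hfker : ∀ x : N, f x = 1 ↔ π x = 1 := by
    intro x
    rw [hf, h.ker, h.ker]
    change g * x * g⁻¹ ∈ V ↔ _
    constructor
    · intro h1
      have h2 := h.normV.conj_mem _ h1 g⁻¹
      have h3 : g⁻¹ * (g * x * g⁻¹) * g⁻¹⁻¹ = x := by group
      rwa [h3] at h2
    · intro h1
      exact h.normV.conj_mem _ h1 g
  let F : An n →* An n := π.liftOfSurjective h.surj ⟨f, fun x hx => (hfker x).2 hx⟩
  have hF : ∀ x : N, F (π x) = f x := fun x => π.liftOfRightInverse_comp_apply _ _ _ x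
  have hinj : Function.Injective F := by
    rw [injective_iff_map_eq_one]
    intro y hy
    obtain ⟨x, rfl⟩ := h.surj y
    rw [hF] at hy
    exact (hfker x).1 hy
  let E : MulAut (An n) := MulEquiv.ofBijective F (Finite.injective_iff_bijective.1 hinj)
  obtain ⟨ψ, hψ⟩ := Cfsg.Agent.StandardComponent.AltAut.exists_autHom n hn
  refine ⟨ψ E, fun x => ?_⟩
  rw [← hf, ← hψ E (π x)]
  exact congrArg Subtype.val (hF x).symm

theorem exists_sgn (h : Cen n N V π) (hn : 7 ≤ n) : ∃ s : G →* ℤˣ, ∀ g, s g = 1 → g ∈ N ⊔ h.C := by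
  choose σ hσ using h.exists_perm hn
  obtain ⟨m, rfl⟩ : ∃ m, n = m + 2 := ⟨n - 2, by omega⟩
  have hmul : ∀ a b, σ (a * b) = σ a * σ b := by
    intro a b
    apply Cfsg.Agent.StandardComponent.AltAut.conj_unique (m := m) (by omega)
    intro y
    obtain ⟨x, rfl⟩ := h.surj y
    have h1 := hσ a ⟨b * x * b⁻¹, h.normN.conj_mem x x.2 b⟩
    rw [hσ b x] at h1
    have h2 : σ a * σ b * (π x : An (m + 2)) * (σ a * σ b)⁻¹ = σ a * (σ b * (π x : An (m + 2)) * (σ b)⁻¹) * (σ a)⁻¹ := by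
      group
    rw [← hσ (a * b) x, h2, ← h1]
    congr 2
    apply Subtype.ext
    change a * b * x * (a * b)⁻¹ = a * (b * x * b⁻¹) * a⁻¹
    group
  refine ⟨Equiv.Perm.sign.comp (MonoidHom.mk' σ hmul), fun g hg => ?_⟩
  obtain ⟨y, hy⟩ := h.surj ⟨σ g, Equiv.Perm.mem_alternatingGroup.2 hg⟩
  have h1 : (y : G)⁻¹ * g ∈ h.C := by
    apply h.mem_C
    intro x hx
    have h2 : (⟨(y : G)⁻¹ * g * x * ((y : G)⁻¹ * g)⁻¹ * x⁻¹, by
        refine N.mul_mem ?_ (N.inv_mem hx)
        exact h.normN.conj_mem x hx _⟩ : N) = y⁻¹ * ⟨g * x * g⁻¹, h.normN.conj_mem x hx g⟩ * y * ⟨x, hx⟩⁻¹ := by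
      apply Subtype.ext
      change (y : G)⁻¹ * g * x * ((y : G)⁻¹ * g)⁻¹ * x⁻¹ = (y : G)⁻¹ * (g * x * g⁻¹) * y * x⁻¹
      group
    have h3 := (h.ker (⟨(y : G)⁻¹ * g * x * ((y : G)⁻¹ * g)⁻¹ * x⁻¹, by
        refine N.mul_mem ?_ (N.inv_mem hx)
        exact h.normN.conj_mem x hx _⟩ : N)).1 (by
      rw [h2]
      apply Subtype.ext
      rw [map_mul, map_mul, map_mul, map_inv, map_inv, hy]
      have h4 := hσ g ⟨x, hx⟩
      push_cast
      rw [h4]
      group)
    exact h3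
  have h2 : g = (y : G) * ((y : G)⁻¹ * g) := by group
  rw [h2]
  exact Subgroup.mul_mem_sup y.2 h1

theorem index_dvd (h : Cen n N V π) (hn : 7 ≤ n) : (N ⊔ h.C).index ∣ 2 := by
  obtain ⟨s, hs⟩ := h.exists_sgn hn
  have h1 : s.ker ≤ N ⊔ h.C := fun g hg => hs g hg
  refine (Subgroup.index_dvd_of_le h1).trans ?_
  rw [Subgroup.index_ker]
  refine (Subgroup.card_subgroup_dvd_card _).trans ?_
  rw [Nat.card_eq_fintype_card]
  decide

/-- the product map -/
def F (h : Cen n N V π) : N × h.C →* G :=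
  MonoidHom.noncommCoprod N.subtype (Subgroup.subtype h.C) fun m c => h.comm_of m.2 c.2

theorem F_apply (h : Cen n N V π) (x : N × h.C) : h.F x = x.1 * x.2 := rfl

theorem F_range (h : Cen n N V π) : h.F.range = N ⊔ h.C := by
  apply le_antisymm
  · rintro _ ⟨x, rfl⟩
    exact Subgroup.mul_mem_sup x.1.2 x.2.2
  · rw [sup_le_iff]
    refine ⟨fun x hx => ⟨(⟨x, hx⟩, 1), ?_⟩, fun x hx => ⟨(1, ⟨x, hx⟩), ?_⟩⟩
    · rw [F_apply]
      exact mul_one x
    · rw [F_apply]
      exact one_mul x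

theorem normC (h : Cen n N V π) : (h.C).Normal := by
  haveI := h.normN
  infer_instance

/-- products of a character of `N` and one of `C(N)` -/
theorem exists_prod [Finite G] (h : Cen n N V π) (hn : 4 ≤ n) {χ : N → ℂ} (hχ : IsIrrCharacter N χ)
    {φ : h.C → ℂ} (hφ : IsIrrCharacter h.C φ)
    (hV : ∀ v : V, χ ⟨v, h.le v.2⟩ * φ ⟨(v : G)⁻¹, h.C.inv_mem (h.cen v.2)⟩ = χ 1 * φ 1) :
    ∃ ψ : h.F.range → ℂ, IsIrrCharacter h.F.range ψ ∧ ∀ x, ψ (h.F.rangeRestrict x) = χ x.1 * φ x.2 := by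
  have hz' : ∀ z : N × h.C, h.F.rangeRestrict z = 1 → χ z.1 * φ z.2 = χ 1 * φ 1 := by
    rintro ⟨x, y⟩ hz
    have h1 : (x : G) * y = 1 := congrArg Subtype.val hz
    have h2 : (y : G) = (x : G)⁻¹ := (inv_eq_of_mul_eq_one_right h1).symm
    have h3 : (x : G) ∈ V := by
      refine h.mem_V hn x.2 ?_
      have h4 : (x : G) = (y : G)⁻¹ := by rw [h2, inv_inv]
      rw [h4]
      exact h.C.inv_mem y.2
    have h4 := hV ⟨x, h3⟩
    have h5 : y = ⟨(x : G)⁻¹, h.C.inv_mem (h.cen h3)⟩ := Subtype.ext h2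
    rw [h5]
    exact h4
  obtain ⟨ψ, h1, h2⟩ := Cfsg.Agent.H576.Ext.exists_irr_of_ker h.F.rangeRestrict h.F.rangeRestrict_surjective
    (Cfsg.Agent.S0188.isIrr_outer hχ hφ) hz'
  exact ⟨ψ, h1, fun x => (h2 x).symm⟩

theorem exists_mul [Finite G] (h : Cen n N V π) (hn : 7 ≤ n) {χ : N → ℂ} (hχ : IsIrrCharacter N χ)
    {φ : h.C → ℂ} (hφ : IsIrrCharacter h.C φ)
    (hV : ∀ v : V, χ ⟨v, h.le v.2⟩ * φ ⟨(v : G)⁻¹, h.C.inv_mem (h.cen v.2)⟩ = χ 1 * φ 1) {a b : ℕ} (ha : χ 1 = a)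
    (hb : φ 1 = b) : ∃ t, t ∣ 2 ∧ a * b * t ∈ charDegrees G := by
  obtain ⟨ψ, h1, h2⟩ := h.exists_prod (by omega) hχ hφ hV
  have h3 : a * b ∈ charDegrees h.F.range := mem_charDegrees.2 ⟨ψ, h1, by
    have h4 := h2 1
    rw [map_one] at h4
    rw [h4]
    push_cast
    rw [← ha, ← hb]
    rfl⟩
  haveI := h.normN
  haveI := h.normC
  haveI : h.F.range.Normal := by
    rw [h.F_range]
    infer_instance
  obtain ⟨d, hd, h4, h5⟩ := clifford_up h.F.range h3
  obtain ⟨t, rfl⟩ := h4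
  have hpos := pos_of_mem h3
  rw [Nat.mul_div_cancel_left _ hpos] at h5
  have h6 := h.index_dvd hn
  rw [← h.F_range] at h6
  exact ⟨t, h5.trans h6, hd⟩

/-- `C(N) / V` is abelian. -/
theorem comm_mem [Finite G] (h : Cen n N V π) (hn : 7 ≤ n) (hD : charDegrees G ⊆ D n) (x y : h.C) :
    ((⁅x, y⁆ : h.C) : G) ∈ V := by
  haveI := h.normV
  have h1 : ∀ d ∈ charDegrees (h.C ⧸ V.subgroupOf h.C), d = 1 := by
    intro c hc
    obtain ⟨b, hb, hmax⟩ := exists_max n
    obtain ⟨φ, hφ, hφ1⟩ := mem_charDegrees.1 hc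
    obtain ⟨θ, hθ, hθ1⟩ := mem_charDegrees.1 hb
    obtain ⟨t, ht, hm⟩ := h.exists_mul hn (isIrr_comp π h.surj hθ)
      (isIrr_comp (QuotientGroup.mk' (V.subgroupOf h.C)) (QuotientGroup.mk'_surjective _) hφ) (by
        intro v
        have e1 : π ⟨v, h.le v.2⟩ = 1 := (h.ker _).2 v.2
        have e2 : (QuotientGroup.mk' (V.subgroupOf h.C)) ⟨(v : G)⁻¹, h.C.inv_mem (h.cen v.2)⟩ = 1 := by
          rw [QuotientGroup.mk'_apply, QuotientGroup.eq_one_iff, Subgroup.mem_subgroupOf]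
          exact V.inv_mem v.2
        simp only [Function.comp_apply, e1, e2, map_one])
      (a := b) (b := c) (by simp [hθ1]) (by simp [hφ1])
    have h2 := hmax _ (hD hm)
    have hb0 := pos_of_mem hb
    have hc0 := pos_of_mem hc
    have ht0 : 0 < t := Nat.pos_of_dvd_of_pos ht two_pos
    have h3 : b * c ≤ b := le_trans (Nat.le_mul_of_pos_right _ ht0) h2
    have h4 : c ≤ 1 := by
      by_contra h5
      have : b * 2 ≤ b * c := Nat.mul_le_mul_left b (by omega)
      omega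
    omega
  have h2 := comm_of_degrees h1 (x : h.C ⧸ V.subgroupOf h.C) y
  have h3 : ((⁅x, y⁆ : h.C) : h.C ⧸ V.subgroupOf h.C) = 1 := by
    change (⁅(x : h.C ⧸ V.subgroupOf h.C), (y : h.C ⧸ V.subgroupOf h.C)⁆) = 1
    rw [commutatorElement_eq_one_iff_mul_comm]
    exact h2
  rw [QuotientGroup.eq_one_iff, Subgroup.mem_subgroupOf] at h3
  exact h3

/-- the degrees of `C(N)` are powers of `p`. -/
theorem deg_C [Finite G] (h : Cen n N V π) (hn : 7 ≤ n) (hD : charDegrees G ⊆ D n) {p : ℕ} (hp : p.Prime)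
    (hV : ∀ v ∈ V, v ^ p = 1) {d : ℕ} (hd : d ∈ charDegrees h.C) : ∃ i, d = p ^ i := by
  have h1 := ito hd (Subgroup.center h.C) (fun a ha b _ => (Subgroup.mem_center_iff.1 ha b).symm)
  haveI : Fact p.Prime := ⟨hp⟩
  have hVc : ∀ v : h.C, (v : G) ∈ V → v ∈ Subgroup.center h.C := by
    intro v hv
    rw [Subgroup.mem_center_iff]
    intro g
    apply Subtype.ext
    exact (h.comm_of (h.le hv) g.2).symm
  have h2 : IsPGroup p (h.C ⧸ Subgroup.center h.C) := by
    intro q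
    obtain ⟨x, rfl⟩ := QuotientGroup.mk_surjective q
    refine ⟨1, ?_⟩
    rw [pow_one, ← QuotientGroup.mk_pow, QuotientGroup.eq_one_iff, Subgroup.mem_center_iff]
    intro y
    have h3 := h.comm_mem hn hD y x
    have h4 : y * x = ⁅y, x⁆ * x * y := by
      rw [commutatorElement_def]
      group
    have h5 : ∀ k : ℕ, y * x ^ k = ⁅y, x⁆ ^ k * x ^ k * y := by
      intro k
      induction k with
      | zero => simp
      | succ k ih =>
        have hc : ∀ z : h.C, z * ⁅y, x⁆ ^ k = ⁅y, x⁆ ^ k * z := fun z =>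
          Subgroup.mem_center_iff.1 (Subgroup.pow_mem _ (hVc _ h3) k) z
        have hc1 : ∀ z : h.C, z * ⁅y, x⁆ = ⁅y, x⁆ * z := fun z =>
          Subgroup.mem_center_iff.1 (hVc _ h3) z
        calc y * x ^ (k + 1) = (y * x ^ k) * x := by rw [pow_succ, mul_assoc]
          _ = ⁅y, x⁆ ^ k * x ^ k * (y * x) := by rw [ih]; group
          _ = ⁅y, x⁆ ^ k * (x ^ k * ⁅y, x⁆) * x * y := by rw [h4]; group
          _ = ⁅y, x⁆ ^ k * (⁅y, x⁆ * x ^ k) * x * y := by rw [hc1]
          _ = ⁅y, x⁆ ^ (k + 1) * x ^ (k + 1) * y := by rw [pow_succ, pow_succ]; group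
    have h6 := h5 p
    have h7 : ⁅y, x⁆ ^ p = 1 := Subtype.ext (hV _ h3)
    rw [h7, one_mul] at h6
    exact h6
  obtain ⟨k, hk⟩ := IsPGroup.iff_card.1 h2
  have h3 : d ∣ p ^ k := by
    rw [← hk]
    exact h1
  obtain ⟨i, -, hi⟩ := (Nat.dvd_prime_pow hp).1 h3
  exact ⟨i, hi⟩

/-- **The common part**: for each linear character `l` of `V` there is a power `f` of `p` such that `χ(1) f t` is a
degree of `A_n`, `t ∈ {1, 2}`, for each irreducible character `χ` of `N` over `l`. -/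
theorem common [Finite G] (h : Cen n N V π) (hn : 7 ≤ n) (hD : charDegrees G ⊆ D n) {p : ℕ} (hp : p.Prime)
    (hV : ∀ v ∈ V, v ^ p = 1) (l : V →* ℂˣ) : ∃ i : ℕ, ∀ χ : N → ℂ, IsIrrCharacter N χ →
      (∀ v : V, χ ⟨v, h.le v.2⟩ = χ 1 * l v) → ∀ a : ℕ, χ 1 = a →
      a * p ^ i ∈ D n ∨ a * p ^ i * 2 ∈ D n := by
  let l' : V.subgroupOf h.C →* ℂˣ := l.comp (Subgroup.subgroupOfEquivOfLe h.cen).toMonoidHom
  have hc : V.subgroupOf h.C ≤ Subgroup.center h.C := by
    intro v hv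
    rw [Subgroup.mem_center_iff]
    intro g
    apply Subtype.ext
    exact (h.comm_of (h.le hv) g.2).symm
  obtain ⟨φ, hφ, hφl⟩ := exists_over hc l'
  obtain ⟨f, -, hf⟩ := isIrr_apply_one hφ
  obtain ⟨i, rfl⟩ := h.deg_C hn hD hp hV (mem_charDegrees.2 ⟨φ, hφ, hf⟩)
  refine ⟨i, fun χ hχ hχl a ha => ?_⟩
  obtain ⟨t, ht, hm⟩ := h.exists_mul hn hχ hφ (by
    intro v
    have e1 := hφl ⟨⟨(v : G)⁻¹, h.C.inv_mem (h.cen v.2)⟩, V.inv_mem v.2⟩
    have e2 : l' ⟨⟨(v : G)⁻¹, h.C.inv_mem (h.cen v.2)⟩, V.inv_mem v.2⟩ = (l v)⁻¹ := by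
      rw [← map_inv]
      rfl
    rw [e2] at e1
    rw [hχl v, e1]
    have e3 : (l v : ℂ) * ((l v)⁻¹ : ℂˣ) = 1 := by
      rw [← Units.val_mul, mul_inv_cancel, Units.val_one]
    linear_combination (χ 1 * φ 1) * e3) ha hf
  rcases (Nat.dvd_prime Nat.prime_two).1 ht with rfl | rfl
  · left
    rw [mul_one] at hm
    exact hD hm
  · right
    exact hD hm

theorem sub_le_center (h : Cen n N V π) : V.subgroupOf N ≤ Subgroup.center N := by
  intro v hv
  rw [Subgroup.mem_center_iff]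
  intro g
  exact Subtype.ext (h.comm_of g.2 (h.cen hv))

theorem commutator_eq (h : Cen n N V π) : commutator N = ⊤ := by
  have h1 := h.perf
  rw [← Subgroup.map_subtype_commutator] at h1
  apply Subgroup.map_injective N.subtype_injective
  rw [h1, ← MonoidHom.range_eq_map, Subgroup.range_subtype]

/-- the exponent of `V`: a minimal normal subgroup -/
theorem exists_prime [Finite G] (h : Cen n N V π) (hne : V ≠ ⊥)
    (hmin : ∀ K : Subgroup G, K.Normal → K ≤ V → K = ⊥ ∨ K = V) : ∃ p : ℕ, p.Prime ∧ ∀ v ∈ V, v ^ p = 1 := by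
  obtain ⟨v, hv, hv1⟩ := V.bot_or_exists_ne_one.resolve_left hne
  obtain ⟨p, hp, hpd⟩ := Nat.exists_prime_and_dvd (n := orderOf v) (by
    rw [Ne, orderOf_eq_one_iff]
    exact hv1)
  refine ⟨p, hp, ?_⟩
  have hVc : ∀ a ∈ V, ∀ b ∈ V, a * b = b * a := fun a ha b hb => h.comm_of (h.le ha) (h.cen hb)
  let K : Subgroup G :=
    { carrier := {x | x ∈ V ∧ x ^ p = 1}
      mul_mem' := by
        rintro a b ⟨ha, ha1⟩ ⟨hb, hb1⟩
        refine ⟨V.mul_mem ha hb, ?_⟩
        have h1 : Commute a b := hVc a ha b hb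
        rw [h1.mul_pow, ha1, hb1, one_mul]
      one_mem' := ⟨V.one_mem, one_pow _⟩
      inv_mem' := by
        rintro a ⟨ha, ha1⟩
        exact ⟨V.inv_mem ha, by rw [inv_pow, ha1, inv_one]⟩ }
  have hK : K.Normal := ⟨by
    rintro a ⟨ha, ha1⟩ g
    refine ⟨h.normV.conj_mem a ha g, ?_⟩
    rw [conj_pow, ha1, mul_one, mul_inv_cancel]⟩
  rcases hmin K hK (fun x hx => hx.1) with h1 | h1
  · exfalso
    have h2 : v ^ (orderOf v / p) ∈ K := by
      refine ⟨V.pow_mem hv _, ?_⟩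
      rw [← pow_mul, Nat.div_mul_cancel hpd, pow_orderOf_eq_one]
    rw [h1, Subgroup.mem_bot] at h2
    have h3 := orderOf_dvd_of_pow_eq_one h2
    have h4 : 0 < orderOf v := orderOf_pos v
    have h5 : 0 < orderOf v / p := Nat.div_pos (Nat.le_of_dvd h4 hpd) hp.pos
    have h6 := Nat.le_of_dvd h5 h3
    have h7 : orderOf v / p < orderOf v := Nat.div_lt_self h4 hp.one_lt
    omega
  · intro x hx
    rw [← h1] at hx
    exact hx.2

/-- `V` has order two -/
theorem exists_z [Finite G] (h : Cen n N V π) (hn : 8 ≤ n) (hne : V ≠ ⊥) :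
    ∃ z : N, z ≠ 1 ∧ z * z = 1 ∧ ∀ x : N, (x : G) ∈ V ↔ x = 1 ∨ x = z := by
  haveI := h.normV
  let e : N ⧸ V.subgroupOf N ≃* An n :=
    (QuotientGroup.quotientMulEquivOfEq (by
      ext x
      rw [MonoidHom.mem_ker, h.ker, Subgroup.mem_subgroupOf])).trans
      (QuotientGroup.quotientKerEquivOfSurjective π h.surj)
  have h1 := S0892.result n (by omega) (by omega) (by omega) (V.subgroupOf N) h.sub_le_center
    (by rw [h.commutator_eq]; exact le_top) e
  obtain ⟨v, hv, hv1⟩ := V.bot_or_exists_ne_one.resolve_left hne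
  let z : N := ⟨v, h.le hv⟩
  have hz1 : z ≠ 1 := fun h2 => hv1 (congrArg Subtype.val h2)
  let z' : V.subgroupOf N := ⟨z, hv⟩
  have hz' : z' ≠ 1 := fun h2 => hz1 (congrArg Subtype.val h2)
  have h2 : ∀ x : V.subgroupOf N, x = 1 ∨ x = z' := by
    intro x
    by_contra hcon
    push Not at hcon
    classical
    haveI := Fintype.ofFinite (V.subgroupOf N)
    have h3 : ({1, z', x} : Finset (V.subgroupOf N)).card ≤ Fintype.card (V.subgroupOf N) :=
      Finset.card_le_univ _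
    rw [Finset.card_insert_of_notMem (by simp [hz'.symm, hcon.1.symm]),
      Finset.card_insert_of_notMem (by simpa using hcon.2.symm), Finset.card_singleton, ← Nat.card_eq_fintype_card] at h3
    omega
  have h3 : ∀ x : N, (x : G) ∈ V ↔ x = 1 ∨ x = z := by
    intro x
    constructor
    · intro hx
      rcases h2 ⟨x, hx⟩ with h4 | h4
      · exact Or.inl (congrArg Subtype.val h4)
      · exact Or.inr (congrArg Subtype.val h4)
    · rintro (rfl | rfl)
      · exact V.one_mem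
      · exact hv
  refine ⟨z, hz1, ?_, h3⟩
  rcases (h3 (z * z)).1 (V.mul_mem hv hv) with h4 | h4
  · exact h4
  · exact absurd (mul_eq_left.1 h4) hz1

theorem isCover (h : Cen n N V π) {z : N} (h1 : z ≠ 1) (h2 : z * z = 1)
    (h3 : ∀ x : N, (x : G) ∈ V ↔ x = 1 ∨ x = z) : Cfsg.Agent.SporadicRecognition.AltCover.IsCover π z where
  z_ne := h1
  z_mul := h2
  z_comm := fun x => Subtype.ext (h.comm_of x.2 (h.cen ((h3 z).2 (Or.inr rfl))))
  surj := h.surj
  ker := fun x => (h.ker x).trans (h3 x)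
  nonsplit := fun s hs => by
    -- the map to `V`
    have hm : ∀ x : N, x * (s (π x))⁻¹ ∈ Subgroup.center N := fun x => h.sub_le_center (by
      rw [Subgroup.mem_subgroupOf, ← h.ker, map_mul, map_inv, hs, mul_inv_cancel])
    let f : N →* Subgroup.center N := MonoidHom.mk' (fun x => ⟨x * (s (π x))⁻¹, hm x⟩) (by
      intro x y
      apply Subtype.ext
      change x * y * (s (π (x * y)))⁻¹ = x * (s (π x))⁻¹ * (y * (s (π y))⁻¹)
      rw [map_mul, map_mul, mul_inv_rev]
      have h4 := Subgroup.mem_center_iff.1 (hm y) (s (π x))⁻¹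
      calc x * y * ((s (π y))⁻¹ * (s (π x))⁻¹) = x * (y * (s (π y))⁻¹ * (s (π x))⁻¹) := by group
        _ = x * ((s (π x))⁻¹ * (y * (s (π y))⁻¹)) := by rw [h4]
        _ = _ := by group)
    have h4 : commutator N ≤ f.ker := by
      rw [commutator_def, Subgroup.commutator_le]
      intro x _ y _
      rw [MonoidHom.mem_ker, map_commutatorElement, commutatorElement_eq_one_iff_mul_comm]
      exact Subtype.ext (Subgroup.mem_center_iff.1 (f y).2 _)
    have h5 : f z = 1 := h4 (by rw [h.commutator_eq]; trivial)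
    have h6 : z * (s (π z))⁻¹ = 1 := congrArg Subtype.val h5
    rw [(h.ker z).2 ((h3 z).2 (Or.inr rfl)), map_one, inv_one, mul_one] at h6
    exact h1 h6

/-- for each character `χ` of `N` there is `i` with `χ(1) p ^ i` or `χ(1) p ^ i 2` a degree of `A_n` -/
theorem common' [Finite G] (h : Cen n N V π) (hn : 7 ≤ n) (hD : charDegrees G ⊆ D n) {p : ℕ} (hp : p.Prime)
    (hV : ∀ v ∈ V, v ^ p = 1) {χ : N → ℂ} (hχ : IsIrrCharacter N χ) {a : ℕ} (ha : χ 1 = a) :
    ∃ i : ℕ, a * p ^ i ∈ D n ∨ a * p ^ i * 2 ∈ D n := by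
  obtain ⟨l, hl⟩ := exists_lin h.sub_le_center hχ
  obtain ⟨i, hi⟩ := h.common hn hD hp hV (l.comp (Subgroup.subgroupOfEquivOfLe h.le).symm.toMonoidHom)
  refine ⟨i, hi χ hχ (fun v => ?_) a ha⟩
  exact hl ⟨⟨v, h.le v.2⟩, v.2⟩

/-- the interface for `n = 8, 9` -/
theorem hpow [Finite G] (h : Cen n N V π) (hn : 8 ≤ n) (hD : charDegrees G ⊆ D n) (hne : V ≠ ⊥)
    {χ : N → ℂ} (hχ : IsIrrCharacter N χ) {a : ℕ} (ha : χ 1 = a) : ∃ i : ℕ, 2 ^ i * a ∈ D n := by
  obtain ⟨z, h1, h2, h3⟩ := h.exists_z hn hne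
  obtain ⟨i, hi⟩ := h.common' (by omega) hD Nat.prime_two (by
    intro v hv
    rcases (h3 ⟨v, h.le hv⟩).1 hv with h4 | h4
    · have h5 : v = 1 := congrArg Subtype.val h4
      rw [h5, one_pow]
    · have h5 : v = z := congrArg Subtype.val h4
      rw [h5, pow_two]
      exact congrArg Subtype.val h2) hχ ha
  rcases hi with h4 | h4
  · exact ⟨i, by rwa [mul_comm]⟩
  · refine ⟨i + 1, ?_⟩
    have h5 : 2 ^ (i + 1) * a = a * 2 ^ i * 2 := by ring
    rwa [h5]

/-- the interface with a fixed power of two -/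
theorem fixed [Finite G] (h : Cen n N V π) (hn : 8 ≤ n) (hD : charDegrees G ⊆ D n) (hne : V ≠ ⊥) :
    ∃ i : ℕ, ∀ χ : N → ℂ, IsIrrCharacter N χ → (∃ v : V, χ ⟨v, h.le v.2⟩ ≠ χ 1) → ∀ a : ℕ, χ 1 = a →
      2 ^ i * a ∈ D n ∨ 2 ^ (i + 1) * a ∈ D n := by
  classical
  obtain ⟨z, h1, h2, h3⟩ := h.exists_z hn hne
  have hV : ∀ v ∈ V, v ^ 2 = 1 := by
    intro v hv
    rcases (h3 ⟨v, h.le hv⟩).1 hv with h4 | h4
    · have h5 : v = 1 := congrArg Subtype.val h4
      rw [h5, one_pow]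
    · have h5 : v = z := congrArg Subtype.val h4
      rw [h5, pow_two]
      exact congrArg Subtype.val h2
  by_cases hex : ∃ χ₀ : N → ℂ, IsIrrCharacter N χ₀ ∧ ∃ v : V, χ₀ ⟨v, h.le v.2⟩ ≠ χ₀ 1
  · obtain ⟨χ₀, hχ₀, v₀, hv₀⟩ := hex
    -- the value at `z`
    have key : ∀ (χ : N → ℂ), IsIrrCharacter N χ → (∃ v : V, χ ⟨v, h.le v.2⟩ ≠ χ 1) → ∀ l : V.subgroupOf N →* ℂˣ,
        Over _ l χ → ∀ v : V.subgroupOf N, (l v : ℂ) = if v = 1 then 1 else -1 := by
      intro χ _ hv l hl v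
      have hzV : (z : G) ∈ V := (h3 z).2 (Or.inr rfl)
      have h4 : ∀ x : V.subgroupOf N, x = 1 ∨ x = ⟨z, hzV⟩ := by
        intro x
        rcases (h3 x).1 x.2 with h5 | h5
        · exact Or.inl (Subtype.ext h5)
        · exact Or.inr (Subtype.ext h5)
      have h5 : (l ⟨z, hzV⟩ : ℂ) ^ 2 = 1 := by
        rw [← Units.val_pow_eq_pow_val, ← map_pow]
        have : (⟨z, hzV⟩ : V.subgroupOf N) ^ 2 = 1 := by
          rw [pow_two]
          exact Subtype.ext h2
        rw [this, map_one, Units.val_one]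
      have h6 : (l ⟨z, hzV⟩ : ℂ) ≠ 1 := by
        intro h7
        obtain ⟨v, hv⟩ := hv
        apply hv
        have h8 := hl ⟨⟨v, h.le v.2⟩, v.2⟩
        rcases h4 ⟨⟨v, h.le v.2⟩, v.2⟩ with h9 | h9
        · rw [h9, map_one, Units.val_one, mul_one] at h8
          have h10 := congrArg Subtype.val h9
          change (⟨v, h.le v.2⟩ : N) = 1 at h10
          rw [h10]
        · rw [h9, h7, mul_one] at h8
          have h10 := congrArg Subtype.val h9
          change (⟨v, h.le v.2⟩ : N) = z at h10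
          rw [h10]
          exact h8
      have h7 : (l ⟨z, hzV⟩ : ℂ) = -1 := by
        exact (sq_eq_one_iff.1 h5).resolve_left h6
      rcases h4 v with rfl | rfl
      · rw [map_one, Units.val_one, if_pos rfl]
      · rw [h7, if_neg]
        intro h8
        exact h1 (congrArg Subtype.val h8)
    obtain ⟨l₀, hl₀⟩ := exists_lin h.sub_le_center hχ₀
    obtain ⟨i, hi⟩ := h.common (by omega) hD Nat.prime_two hV
      (l₀.comp (Subgroup.subgroupOfEquivOfLe h.le).symm.toMonoidHom)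
    refine ⟨i, fun χ hχ hv a ha => ?_⟩
    obtain ⟨l, hl⟩ := exists_lin h.sub_le_center hχ
    have h4 := hi χ hχ (fun v => by
      have h5 := hl ⟨⟨v, h.le v.2⟩, v.2⟩
      rw [key χ hχ hv l hl, ← key χ₀ hχ₀ ⟨v₀, hv₀⟩ l₀ hl₀] at h5
      exact h5) a ha
    rcases h4 with h4 | h4
    · left
      rwa [mul_comm]
    · right
      have h5 : 2 ^ (i + 1) * a = a * 2 ^ i * 2 := by ring
      rwa [h5]
  · push Not at hex
    refine ⟨0, fun χ hχ hv a ha => ?_⟩
    obtain ⟨v, hv⟩ := hv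
    exact absurd (hex χ hχ v) hv

end Cen

end Cfsg.Agent.H388.AN
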