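import Cfsg.Agent.H388.AN.Cen
import Cfsg.Agent.H71.AN.Deg
import Cfsg.Agent.H89.AN.AOneTwo

/-!
# S4766, D6 for `n ≥ 10` (helper388)
-/

set_option autoImplicit false

namespace Cfsg.Agent.H388.AN

open Cfsg Cfsg.Agent.Characters.Core Cfsg.Agent.H424.DegTools Cfsg.Agent.H691.AN

universe u

theorem arith {m k : ℕ} (hm : 4 ≤ m) (hk : m ≤ k) : 2 * m + 2 < 2 ^ k := by
  have h1 : 2 ^ m ≤ 2 ^ k := Nat.pow_le_pow_right (by norm_num) hk
  have h2 : ∀ t : ℕ, 2 * (t + 4) + 2 < 2 ^ (t + 4) := by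
    intro t
    induction t with
    | zero => norm_num
    | succ t ih =>
      rw [show t + 1 + 4 = (t + 4) + 1 by ring, pow_succ]
      omega
  have h3 := h2 (m - 4)
  rw [Nat.sub_add_cancel hm] at h3
  omega

/-- **D6 for `n ≥ 10`** -/
theorem d6_large {n : ℕ} (hn : 10 ≤ n) {G : Type u} [Group G] [Finite G] (h : charDegrees G ⊆ D n) (N V : Subgroup G)
    [N.Normal] [V.Normal] (hVN : V ≤ N) (e : (N ⧸ V.subgroupOf N) ≃* An n) (hperf : ⁅N, N⁆ = N)
    (hcen : V ≤ Subgroup.centralizer (N : Set G)) (hne : V ≠ ⊥) : False := by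
  have hC := cen_of hVN e hperf hcen
  obtain ⟨z, h1, h2, h3⟩ := hC.exists_z (by omega) hne
  obtain ⟨χ, hχ, -, hχ1⟩ := Cfsg.Agent.H107.Spin.exists_basic_spin (by omega) (hC.isCover h1 h2 h3)
  obtain ⟨i, hi⟩ := hC.hpow (by omega) h hne hχ hχ1
  rw [← pow_add] at hi
  have h4 := Cfsg.Agent.H71.AN.a5_of (fun hn => Cfsg.Agent.H89.AN.a2_part hn) hn Nat.prime_two (by omega) hi
  have h5 := arith (m := (n - 2) / 2) (k := i + (n - 2) / 2) (by omega) (by omega)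
  omega

end Cfsg.Agent.H388.AN
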